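import Mathlib
import Cfsg.Prelude.Def_Sporadic_a
import Cfsg.Agent.Lib.Helper3.Golay.Involutions
import Cfsg.Agent.Lib.Helper3.Golay.OctadComm

set_option autoImplicit false

/-! The centralizer in `M24` of an involution with fixed points has order at least `21504`. -/

namespace Cfsg.Agent.Lib.Helper3.Cent24

open Cfsg Cfsg.Agent.Lib.Helper3.Golay
open scoped Pointwise

/-- the class equation as an inequality -/
theorem card_le_of_conj {G : Type*} [Group G] [Finite G] (z : G) (S : Set G)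
    (hS : ∀ k : G, k * z * k⁻¹ ∈ S) :
    Nat.card G ≤ S.ncard * Nat.card (Subgroup.centralizer ({z} : Set G)) := by
  rw [Subgroup.card_eq_card_quotient_mul_card_subgroup (Subgroup.centralizer ({z} : Set G))]
  apply Nat.mul_le_mul_right
  rw [← Nat.card_coe_set_eq]
  let f : G ⧸ Subgroup.centralizer ({z} : Set G) → ↥S :=
    Quotient.lift (fun k => (⟨k * z * k⁻¹, hS k⟩ : ↥S)) (by
      intro a b hab
      have h1 : a⁻¹ * b ∈ Subgroup.centralizer ({z} : Set G) := QuotientGroup.leftRel_apply.mp hab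
      have h2 : z * (a⁻¹ * b) = (a⁻¹ * b) * z :=
        (Subgroup.mem_centralizer_iff.mp h1) z rfl
      apply Subtype.ext
      show a * z * a⁻¹ = b * z * b⁻¹
      have h3 : b = a * (a⁻¹ * b) := by group
      rw [h3, mul_assoc a (a⁻¹ * b) z, ← h2]
      group)
  apply Nat.card_le_card_of_injective f
  intro x y
  refine Quotient.inductionOn₂ x y ?_
  intro a b hab
  have h1 : a * z * a⁻¹ = b * z * b⁻¹ := congrArg Subtype.val hab
  apply Quotient.sound
  apply QuotientGroup.leftRel_apply.mpr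
  rw [Subgroup.mem_centralizer_iff]
  intro w hw
  rw [Set.mem_singleton_iff] at hw
  subst hw
  have h2 : w = a⁻¹ * (b * w * b⁻¹) * a := by rw [← h1]; group
  calc w * (a⁻¹ * b) = a⁻¹ * (b * w * b⁻¹) * a * (a⁻¹ * b) := by rw [← h2]
    _ = a⁻¹ * b * w := by group

/-- the involutions of `M24` with a fixed point -/
def Inv8 : Set (Equiv.Perm GolayPt) := {g | g ∈ M24 ∧ orderOf g = 2 ∧ ∃ p, g p = p}

theorem ncard_Fo_diff {o : Finset GolayPt} (ho : o ∈ octads) :
    ((Fo o : Set (Equiv.Perm GolayPt)) \ {1}).ncard = 15 := by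
  have h16 : Nat.card ↥(Fo o) = 16 := (Cfsg.Agent.S0381.result o ho).1
  have h1 : ((Fo o : Set (Equiv.Perm GolayPt))).ncard = 16 := by
    rw [← h16]; exact (Nat.card_coe_set_eq _).symm
  rw [Set.ncard_sdiff_singleton_of_mem (Fo o).one_mem, h1]

theorem ncard_Inv8_le : Inv8.ncard ≤ 11385 := by
  classical
  have hfin : (octads : Set (Finset GolayPt)).Finite := Set.toFinite _
  have hsub : Inv8 ⊆ ⋃ o ∈ hfin.toFinset, ((Fo o : Set (Equiv.Perm GolayPt)) \ {1}) := by
    rintro g ⟨hg, h2, p, hp⟩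
    have hoct := fixed_octad_of_fixed hg h2 hp
    rw [Set.mem_iUnion₂]
    refine ⟨_, hfin.mem_toFinset.mpr hoct, ?_, ?_⟩
    · apply mem_Fo.mpr
      refine ⟨hg, fun x hx => ?_⟩
      exact (Finset.mem_filter.mp hx).2
    · rw [Set.mem_singleton_iff]
      exact ne_one_of_orderOf h2
  calc Inv8.ncard ≤ (⋃ o ∈ hfin.toFinset, ((Fo o : Set (Equiv.Perm GolayPt)) \ {1})).ncard :=
        Set.ncard_le_ncard hsub (Set.toFinite _)
    _ ≤ ∑ o ∈ hfin.toFinset, ((Fo o : Set (Equiv.Perm GolayPt)) \ {1}).ncard :=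
        Finset.set_ncard_biUnion_le _ _
    _ = ∑ _o ∈ hfin.toFinset, 15 := by
        refine Finset.sum_congr rfl fun o ho => ?_
        exact ncard_Fo_diff (hfin.mem_toFinset.mp ho)
    _ = 11385 := by
        rw [Finset.sum_const, ← Set.ncard_eq_toFinset_card _ hfin, ncard_octads]
        rfl

/-- the order of the centralizer -/
theorem card_centralizer_ge {z : ↥M24} (h2 : orderOf z = 2) {p : GolayPt}
    (hp : (z : Equiv.Perm GolayPt) p = p) :
    21504 ≤ Nat.card (Subgroup.centralizer ({z} : Set ↥M24)) := by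
  let S : Set ↥M24 := {k | (k : Equiv.Perm GolayPt) ∈ Inv8}
  have hS : ∀ k : ↥M24, k * z * k⁻¹ ∈ S := by
    intro k
    refine ⟨(k * z * k⁻¹).2, ?_, (k : Equiv.Perm GolayPt) p, ?_⟩
    · have hsc : SemiconjBy k z (k * z * k⁻¹) := by
        show k * z = k * z * k⁻¹ * k
        group
      have : orderOf (k * z * k⁻¹) = 2 := by rw [← hsc.orderOf_eq]; exact h2
      rw [← this]
      exact Subgroup.orderOf_coe (k * z * k⁻¹)
    · show (k : Equiv.Perm GolayPt) ((z : Equiv.Perm GolayPt) ((k : Equiv.Perm GolayPt)⁻¹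
        ((k : Equiv.Perm GolayPt) p))) = (k : Equiv.Perm GolayPt) p
      rw [Equiv.Perm.inv_def, Equiv.symm_apply_apply, hp]
  have h1 := card_le_of_conj z S hS
  have h3 : S.ncard ≤ 11385 := by
    have : S.ncard ≤ Inv8.ncard := by
      have himg : Subtype.val '' S ⊆ Inv8 := by
        rintro _ ⟨k, hk, rfl⟩
        exact hk
      rw [← Set.ncard_image_of_injective S Subtype.val_injective]
      exact Set.ncard_le_ncard himg (Set.toFinite _)
    exact this.trans ncard_Inv8_le
  rw [card_M24] at h1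
  by_contra hcon
  rw [not_le] at hcon
  have : S.ncard * Nat.card (Subgroup.centralizer ({z} : Set ↥M24)) ≤ 11385 * 21503 :=
    Nat.mul_le_mul h3 (by omega)
  omega

end Cfsg.Agent.Lib.Helper3.Cent24
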