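import Mathlib
import Cfsg.Prelude.Def_Sporadic_a
import Cfsg.Agent.Lib.Helper3.Golay.Involutions
import Cfsg.Agent.Lib.Helper3.Golay.OctadComm

set_option autoImplicit false

/-! The five-dimensional representation of the stabilizer of the base octad on the code words
supported outside the octad. -/

namespace Cfsg.Agent.Lib.Helper3.Cent24

open Cfsg Cfsg.Agent.Lib.Helper3.Golay
open scoped Pointwise

/-- a basis of the code words supported outside the base octad -/
def Wm : Fin 5 → ℕ := ![0x7dbfd0, 0x527c0, 0xcb250, 0x149f00, 0x258c50]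

/-- the points defining the dual basis -/
def Qp : Fin 5 → ℕ := ![22, 7, 19, 20, 21]

/-- the dual basis, on bitmasks -/
def evM (i : Fin 5) (m : ℕ) : Bool := xor (m.testBit (Qp i)) (!(decide (i = 0)) && m.testBit 22)

/-- the dual basis -/
def ev (i : Fin 5) : (GolayPt → ZMod 2) →ₗ[ZMod 2] ZMod 2 :=
  (LinearMap.proj (pt (Qp i)) : (GolayPt → ZMod 2) →ₗ[ZMod 2] ZMod 2) +
    (if i = 0 then 0 else (LinearMap.proj (pt 22) : (GolayPt → ZMod 2) →ₗ[ZMod 2] ZMod 2))

theorem ev_apply (i : Fin 5) (w : GolayPt → ZMod 2) :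
    ev i w = w (pt (Qp i)) + (if i = 0 then 0 else w (pt 22)) := by
  unfold ev
  by_cases h : i = 0 <;> simp [h]

theorem Qp_lt (i : Fin 5) : Qp i < 24 := by revert i; decide

theorem ev_wordOf (i : Fin 5) (m : ℕ) : ev i (wordOf m) = if evM i m then 1 else 0 := by
  rw [ev_apply, wordOf_apply, wordOf_apply, idx_pt (Qp_lt i), idx_pt (by norm_num : 22 < 24)]
  unfold evM
  by_cases h : i = 0
  · simp only [h, if_true, decide_true, Bool.not_true, Bool.false_and, Bool.xor_false, add_zero]
  · simp only [h, if_false, decide_false, Bool.not_false, Bool.true_and]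
    cases m.testBit (Qp i) <;> cases m.testBit 22 <;> decide

/-- the expansion of a bitmask -/
def expandM (m : ℕ) : ℕ :=
  (bif evM 0 m then Wm 0 else 0) ^^^ (bif evM 1 m then Wm 1 else 0) ^^^
    (bif evM 2 m then Wm 2 else 0) ^^^ (bif evM 3 m then Wm 3 else 0) ^^^
    (bif evM 4 m then Wm 4 else 0)

set_option maxRecDepth 100000 in
theorem cert_expand : allBelow 4096 (fun c =>
    !(Nat.beq (codeMask c &&& O0) 0) || Nat.beq (expandM (codeMask c)) (codeMask c)) = true := by
  decide +kernel

/-- the code words supported outside the base octad -/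
def InW (w : GolayPt → ZMod 2) : Prop := w ∈ golayCode ∧ ∀ p ∈ bitSet O0, w p = 0

theorem smul_ite (b : Bool) (v : GolayPt → ZMod 2) :
    (if b then (1 : ZMod 2) else 0) • v = if b then v else 0 := by
  cases b <;> simp

theorem expand {w : GolayPt → ZMod 2} (hw : InW w) : w = ∑ k, ev k w • wordOf (Wm k) := by
  obtain ⟨c, hc, rfl⟩ := (mem_golayCode_iff w).mp hw.1
  have hcert := (allBelow_iff _ _).mp cert_expand c hc
  have h0 : codeMask c &&& O0 = 0 := by
    apply Nat.eq_of_testBit_eq
    intro i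
    rw [Nat.testBit_and, Nat.zero_testBit]
    by_cases hO : O0.testBit i = true
    · have hi : i < 24 := by
        by_contra hcon
        have : O0.testBit i = false := testBit_eq_false_of_lt (by decide) (by omega)
        rw [this] at hO
        exact absurd hO (by simp)
      have hp : pt i ∈ bitSet O0 := by rw [mem_bitSet, idx_pt hi]; exact hO
      have := hw.2 _ hp
      rw [wordOf_apply, idx_pt hi] at this
      by_cases hb : (codeMask c).testBit i = true
      · rw [hb] at this; simp at this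
      · simp only [Bool.not_eq_true] at hb
        rw [hb]; rfl
    · simp only [Bool.not_eq_true] at hO
      rw [hO, Bool.and_false]
  rw [h0] at hcert
  have h1 : expandM (codeMask c) = codeMask c := by
    simpa using hcert
  conv_lhs => rw [← h1]
  unfold expandM
  simp only [wordOf_xor, wordOf_cond, Fin.sum_univ_five, ev_wordOf, smul_ite]

theorem cert_W : ∀ j : Fin 5, Wm j < 16777216 ∧ codeMask (Wm j % 4096) = Wm j ∧ Wm j &&& O0 = 0 := by
  decide +kernel

theorem Wm_InW (j : Fin 5) : InW (wordOf (Wm j)) := by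
  obtain ⟨h1, h2, h3⟩ := cert_W j
  refine ⟨?_, ?_⟩
  · rw [← h2]; exact wordOf_codeMask_mem _
  · intro p hp
    rw [wordOf_apply]
    have : (Wm j).testBit (idx p) = false := by
      have h4 := congrArg (fun n => n.testBit (idx p)) h3
      simp only [Nat.testBit_and, Nat.zero_testBit] at h4
      rw [mem_bitSet] at hp
      rw [hp, Bool.and_true] at h4
      exact h4
    rw [this]; rfl

/-- the stabilizer of the base octad -/
def GO : Subgroup (Equiv.Perm GolayPt) := M24 ⊓ MulAction.stabilizer (Equiv.Perm GolayPt) (bitSet O0)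

theorem mem_GO {σ : Equiv.Perm GolayPt} :
    σ ∈ GO ↔ σ ∈ M24 ∧ ∀ x, σ x ∈ bitSet O0 ↔ x ∈ bitSet O0 := by
  unfold GO
  rw [Subgroup.mem_inf, stab_iff]

theorem permWord_InW {σ : Equiv.Perm GolayPt} (hσ : σ ∈ GO) {w : GolayPt → ZMod 2} (hw : InW w) :
    InW (permWord σ w) := by
  obtain ⟨h1, h2⟩ := mem_GO.mp hσ
  refine ⟨(mem_M24_iff σ).mp h1 w hw.1, ?_⟩
  intro p hp
  rw [permWord_apply]
  apply hw.2
  rw [← h2, Equiv.apply_symm_apply]
  exact hp

/-- the matrix of a permutation -/
def mat (σ : Equiv.Perm GolayPt) : Matrix (Fin 5) (Fin 5) (ZMod 2) :=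
  fun i j => ev i (permWord σ (wordOf (Wm j)))

theorem permWord_mul (σ τ : Equiv.Perm GolayPt) (w : GolayPt → ZMod 2) :
    permWord (σ * τ) w = permWord σ (permWord τ w) := by
  funext p
  simp [permWord_apply, Equiv.Perm.mul_def]

theorem permWord_basis {τ : Equiv.Perm GolayPt} (hτ : τ ∈ GO) (j : Fin 5) :
    permWord τ (wordOf (Wm j)) = ∑ k, mat τ k j • wordOf (Wm k) :=
  expand (permWord_InW hτ (Wm_InW j))

theorem mat_mul (σ : Equiv.Perm GolayPt) {τ : Equiv.Perm GolayPt} (hτ : τ ∈ GO) :
    mat (σ * τ) = mat σ * mat τ := by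
  ext i j
  show ev i (permWord (σ * τ) (wordOf (Wm j))) = _
  rw [permWord_mul, permWord_basis hτ j, map_sum, map_sum, Matrix.mul_apply]
  refine Finset.sum_congr rfl fun k _ => ?_
  rw [map_smul, map_smul, smul_eq_mul, mul_comm]
  rfl

theorem cert_one : ∀ i j : Fin 5, evM i (Wm j) = decide (i = j) := by decide +kernel

theorem mat_one : mat 1 = 1 := by
  ext i j
  show ev i (permWord 1 (wordOf (Wm j))) = _
  have : permWord 1 (wordOf (Wm j)) = wordOf (Wm j) := rfl
  rw [this, ev_wordOf, cert_one, Matrix.one_apply]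
  by_cases h : i = j <;> simp [h]

theorem det_mat {σ : Equiv.Perm GolayPt} (hσ : σ ∈ GO) : (mat σ).det = 1 := by
  have h1 : mat σ * mat σ⁻¹ = 1 := by
    rw [← mat_mul σ (GO.inv_mem hσ), mul_inv_cancel, mat_one]
  have h2 := congrArg Matrix.det h1
  rw [Matrix.det_mul, Matrix.det_one] at h2
  revert h2
  generalize (mat σ).det = a
  generalize (mat σ⁻¹).det = b
  revert a b
  decide

/-- a permutation in the stabilizer of the base octad with trivial matrix fixes all points outside
the octad -/
theorem cert_sep : ∀ a b : Fin 24, O0.testBit a = false → O0.testBit b = false →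
    (∀ j : Fin 5, (Wm j).testBit a = (Wm j).testBit b) → a = b := by
  decide +kernel

theorem fix_of_mat_eq_one {σ : Equiv.Perm GolayPt} (hσ : σ ∈ GO) (h : mat σ = 1) {p : GolayPt}
    (hp : p ∉ bitSet O0) : σ p = p := by
  obtain ⟨h1, h2⟩ := mem_GO.mp hσ
  have hw : ∀ j : Fin 5, permWord σ (wordOf (Wm j)) = wordOf (Wm j) := by
    intro j
    rw [permWord_basis hσ j, h]
    simp [Matrix.one_apply, Finset.sum_ite_eq']
  -- compare the coordinates of `p` and `σ p`
  have hq : σ p ∉ bitSet O0 := fun hcon => hp ((h2 p).mp hcon)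
  have hcoord : ∀ j : Fin 5, (Wm j).testBit (idx (σ p)) = (Wm j).testBit (idx p) := by
    intro j
    have := congrFun (hw j) (σ p)
    rw [permWord_apply, Equiv.symm_apply_apply, wordOf_apply, wordOf_apply] at this
    by_cases ha : (Wm j).testBit (idx p) = true <;> by_cases hb : (Wm j).testBit (idx (σ p)) = true
    · rw [ha, hb]
    · rw [ha] at this; simp only [Bool.not_eq_true] at hb; rw [hb] at this; simp at this
    · rw [hb] at this; simp only [Bool.not_eq_true] at ha; rw [ha] at this; simp at this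
    · simp only [Bool.not_eq_true] at ha hb; rw [ha, hb]
  have hsep := cert_sep ⟨idx (σ p), idx_lt _⟩ ⟨idx p, idx_lt _⟩
    (by rw [mem_bitSet] at hq; simpa using hq) (by rw [mem_bitSet] at hp; simpa using hp) hcoord
  apply idx_injective
  exact congrArg Fin.val hsep

theorem cert_oct : isOct (Wm 1) = true ∧ (Wm 1).testBit 4 = false ∧ O0.testBit 4 = false ∧
    Wm 1 &&& O0 = 0 := by
  decide +kernel

theorem eq_one_of_mat_eq_one {σ : Equiv.Perm GolayPt} (hσ : σ ∈ GO) (h : mat σ = 1) : σ = 1 := by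
  obtain ⟨h1, h2, h3, h4⟩ := cert_oct
  have hoct : bitSet (Wm 1) ∈ octads := isOct_mem h1
  have hfix : ∀ p, p ∉ bitSet O0 → σ p = p := fun p hp => fix_of_mat_eq_one hσ h hp
  have hsub : ∀ x ∈ bitSet (Wm 1), x ∉ bitSet O0 := by
    intro x hx hx'
    rw [mem_bitSet] at hx hx'
    have := congrArg (fun n => n.testBit (idx x)) h4
    simp only [Nat.testBit_and, Nat.zero_testBit, hx, hx', Bool.and_self] at this
    exact absurd this (by simp)
  have hmem : σ ∈ Fo (bitSet (Wm 1)) ⊓ MulAction.stabilizer (Equiv.Perm GolayPt) (pt 4) := by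
    refine Subgroup.mem_inf.mpr ⟨mem_Fo.mpr ⟨(mem_GO.mp hσ).1, fun x hx => hfix x (hsub x hx)⟩, ?_⟩
    rw [MulAction.mem_stabilizer_iff]
    apply hfix
    rw [mem_bitSet, idx_pt (by norm_num)]
    simp [h3]
  have hp4 : pt 4 ∉ bitSet (Wm 1) := by
    rw [mem_bitSet, idx_pt (by norm_num)]
    simp [h2]
  rw [Fo_inf_stabilizer hoct hp4] at hmem
  exact Subgroup.mem_bot.mp hmem

end Cfsg.Agent.Lib.Helper3.Cent24
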