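import Mathlib
import Cfsg.Prelude.Def_Sporadic_a
import Cfsg.Agent.Lib.Helper3.Cent24.Rep
import Cfsg.Agent.Lib.Helper3.Cent24.Count
import Cfsg.Agent.Lib.Helper14.TransvCent

set_option autoImplicit false

/-! The centralizer in `M24` of an involution fixing an octad pointwise is isomorphic to the
centralizer of a transvection in `SL₅(2)`. -/

namespace Cfsg.Agent.Lib.Helper3.Cent24

open Cfsg Cfsg.Agent.Lib.Helper3.Golay
open scoped Pointwise

theorem okInv_E1 : okInv E1i E1i = true := by decide +kernel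

/-- the involution -/
def z0 : Equiv.Perm GolayPt := permOfTbl E1i E1i okInv_E1 okInv_E1

theorem z0_tbl : HasTbl z0 E1i := hasTbl_permOfTbl E1i E1i okInv_E1 okInv_E1

theorem codeOK_E1 : codeOK E1i = true := by decide +kernel

theorem z0_mem : z0 ∈ M24 := z0_tbl.mem_M24 codeOK_E1

theorem z0_sq : z0 * z0 = 1 := by
  apply Equiv.ext
  intro p
  exact z0.left_inv p

theorem cert_fix : ∀ i : Fin 24, (E1i.getD i 0 = i) ↔ O0.testBit i = true := by decide +kernel

theorem z0_fix (p : GolayPt) : z0 p = p ↔ p ∈ bitSet O0 := by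
  rw [z0_tbl.apply_eq_iff, mem_bitSet]
  exact cert_fix ⟨idx p, idx_lt p⟩

theorem z0_ne : z0 ≠ 1 := by
  intro h
  have h1 : z0 (pt 4) = pt 4 := by rw [h]; rfl
  rw [z0_fix, mem_bitSet, idx_pt (by norm_num)] at h1
  revert h1
  decide +kernel

/-- the involution as an element of `M24` -/
def zz : ↥M24 := ⟨z0, z0_mem⟩

theorem zz_order : orderOf zz = 2 := by
  rw [← Subgroup.orderOf_coe]
  exact orderOf_eq_two z0_sq z0_ne

theorem mem_GO_of_comm {σ : Equiv.Perm GolayPt} (hσ : σ ∈ M24) (hc : z0 * σ = σ * z0) : σ ∈ GO := by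
  rw [mem_GO]
  refine ⟨hσ, fun x => ?_⟩
  rw [← z0_fix, ← z0_fix]
  have h1 : z0 (σ x) = σ (z0 x) := congrFun (congrArg DFunLike.coe hc) x
  rw [h1]
  exact σ.injective.eq_iff

theorem mem_GO_of_cent {σ : ↥M24} (h : σ ∈ Subgroup.centralizer ({zz} : Set ↥M24)) :
    (σ : Equiv.Perm GolayPt) ∈ GO := by
  apply mem_GO_of_comm σ.2
  have := Subgroup.mem_centralizer_iff.mp h zz rfl
  exact congrArg Subtype.val this

/-- the representation of the centralizer -/
def Phi0 : ↥(Subgroup.centralizer ({zz} : Set ↥M24)) →*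
    Matrix.SpecialLinearGroup (Fin 5) (ZMod 2) where
  toFun σ := ⟨mat (σ.1.1), det_mat (mem_GO_of_cent σ.2)⟩
  map_one' := Subtype.ext mat_one
  map_mul' σ τ := Subtype.ext (mat_mul _ (mem_GO_of_cent τ.2))

theorem Phi0_injective : Function.Injective Phi0 := by
  rw [injective_iff_map_eq_one]
  intro σ h
  have h1 : mat (σ.1.1) = 1 := congrArg Subtype.val h
  have h2 := eq_one_of_mat_eq_one (mem_GO_of_cent σ.2) h1
  apply Subtype.ext
  apply Subtype.ext
  exact h2

theorem cert_z : ∀ i j : Fin 5, evM i (pmAux (tblFn E1i) 24 (Wm j)) =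
    (decide (i = j) || (decide (i = 0) && decide (j = 1))) := by
  decide +kernel

theorem mat_z0 : mat z0 = Matrix.transvection 0 1 1 := by
  ext i j
  show ev i (permWord z0 (wordOf (Wm j))) = _
  rw [permWord_wordOf z0 (tblFn E1i) z0_tbl.2, ev_wordOf, cert_z]
  show _ = Cfsg.Agent.Lib.Helper14.TransvCent.t01 i j
  rw [Cfsg.Agent.Lib.Helper14.TransvCent.t01_eq]
  fin_cases i <;> fin_cases j <;> rfl

/-- the main statement -/
theorem cent_equiv (s : Matrix.SpecialLinearGroup (Fin 5) (ZMod 2))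
    (hs : (s : Matrix (Fin 5) (Fin 5) (ZMod 2)) = Matrix.transvection 0 1 1) :
    ∃ z : ↥M24, orderOf z = 2 ∧
      Nonempty (↥(Subgroup.centralizer ({z} : Set ↥M24)) ≃*
        ↥(Subgroup.centralizer ({s} : Set (Matrix.SpecialLinearGroup (Fin 5) (ZMod 2))))) := by
  refine ⟨zz, zz_order, ?_⟩
  have hzc : zz ∈ Subgroup.centralizer ({zz} : Set ↥M24) := by
    rw [Subgroup.mem_centralizer_iff]
    intro w hw
    rw [Set.mem_singleton_iff] at hw
    rw [hw]
  have hPz : Phi0 ⟨zz, hzc⟩ = s := Subtype.ext (mat_z0.trans hs.symm)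
  have hmem : ∀ σ, Phi0 σ ∈
      Subgroup.centralizer ({s} : Set (Matrix.SpecialLinearGroup (Fin 5) (ZMod 2))) := by
    intro σ
    rw [Subgroup.mem_centralizer_iff]
    intro w hw
    rw [Set.mem_singleton_iff] at hw
    subst hw
    rw [← hPz, ← map_mul, ← map_mul]
    congr 1
    apply Subtype.ext
    exact Subgroup.mem_centralizer_iff.mp σ.2 zz rfl
  have hinj : Function.Injective (Phi0.codRestrict _ hmem) := by
    intro a b hab
    apply Phi0_injective
    exact congrArg Subtype.val hab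
  have hcard : Nat.card ↥(Subgroup.centralizer ({s} : Set (Matrix.SpecialLinearGroup (Fin 5) (ZMod 2)))) ≤
      Nat.card ↥(Subgroup.centralizer ({zz} : Set ↥M24)) := by
    rw [Cfsg.Agent.Lib.Helper14.TransvCent.main s hs]
    have hp : (zz : Equiv.Perm GolayPt) (pt 0) = pt 0 := by
      show z0 (pt 0) = pt 0
      rw [z0_fix, mem_bitSet, idx_pt (by norm_num)]
      decide +kernel
    exact card_centralizer_ge zz_order hp
  exact ⟨MulEquiv.ofBijective _ (hinj.bijective_of_nat_card_le hcard)⟩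

end Cfsg.Agent.Lib.Helper3.Cent24
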